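import Cfsg.Agent.H187.FiTwoZ.FiTwo
import Cfsg.Agent.H843.N23
import Cfsg.Agent.H711.FiEven
import Cfsg.Agent.H819.CubeFi24

/-!
# S4897, row `Fi24'` (helper187)

Irreducible characters of degrees `57477 = 3 * 49 * 17 * 23` and `249458 = 2 * 11 * 17 * 23 * 29`.
-/

set_option autoImplicit false

namespace Cfsg.Agent.H187.FiTwoZ

open Cfsg Cfsg.Spor Cfsg.Agent.H504.TwoZ Cfsg.Agent.LThreeM.SrgFix Cfsg.Agent.Fischer.Abstract
open Cfsg.Agent.R08.FiTwentyFour

theorem card_fi24 : Nat.card ↥(commutator Fi24) = 1255205709190661721292800 := card_commutator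

theorem finite_fi24' : Finite ↥(commutator Fi24) := Nat.finite_of_card_ne_zero (by rw [card_fi24]; norm_num)

/-- any two points have a common neighbour -/
theorem fi24_common {X : Type*} [MulAction Fi24 X] (R : Rank3 Fi24 X) (hR : Set.range R.t = L) (x y : X) :
    ∃ z, R.Com z x ∧ R.Com z y := by
  have hfX : Finite X := Nat.finite_of_card_ne_zero (by rw [Cfsg.Agent.H711.FiEven.card_X R hR]; norm_num)
  by_cases hc : R.Com x y
  · exact ⟨x, R.com_self x, hc⟩
  · have h1 := ncard_cn_ncom R hc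
    rw [Cfsg.Agent.H711.FiEven.cb_card R hR] at h1
    obtain ⟨z, hz⟩ := Set.nonempty_of_ncard_ne_zero (s := cn R x y) (by rw [h1]; norm_num)
    exact ⟨z, R.com_symm hz.1.2, R.com_symm hz.2.2⟩

theorem fi24_not_inv {x : Fi24} (hx : orderOf x = 23)
    (hN : Nat.card (Subgroup.normalizer (Subgroup.zpowers x : Set Fi24)) = 11 * 46)
    (hC : Nat.card (Subgroup.centralizer (Subgroup.zpowers x : Set Fi24)) = 46) (hm : x ∈ commutator Fi24)
    (φ : MulAut ↥(commutator Fi24)) : φ ⟨x, hm⟩ ≠ (⟨x, hm⟩ : ↥(commutator Fi24))⁻¹ := by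
  have hfin : Finite Fi24 := finite_Fi24
  intro h
  obtain ⟨g, hg⟩ := Cfsg.Agent.H819.CubeFi24.conj_surjective φ
  rw [← hg] at h
  have h2 := congrArg (Subtype.val : ↥(commutator Fi24) → Fi24) h
  rw [MulAut.conjNormal_apply] at h2
  exact not_real (x := x) (by rw [hx]; norm_num) (c := 46) (m := 11) hN hC (by decide) g h2

theorem mem_of_odd {G : Type*} [Group G] {N : Subgroup G} (hN : N.index = 2) {x : G} {n : ℕ}
    (hx : x ^ (2 * n + 1) = 1) : x ∈ N := by
  have h1 : x * x ∈ N := (Subgroup.mul_mem_iff_of_index_two hN).2 Iff.rfl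
  have h2 : (x * x) ^ n * x ∈ N := by
    rw [← pow_two, ← pow_mul, ← pow_succ, hx]
    exact N.one_mem
  exact (Subgroup.mul_mem_cancel_left N (N.pow_mem h1 n)).1 h2

theorem fi24_model : RowT ↥(commutator Fi24) := by
  classical
  have hcT := card_fi24
  have hfin : Finite Fi24 := finite_Fi24
  have hfinT := finite_fi24'
  obtain ⟨R, -, -, hR⟩ := facts.exists_rank3
  have hcX := Cfsg.Agent.H711.FiEven.card_X R hR
  have hfX : Finite (Fi24 ⧸ Cfsg.Agent.Fischer.Fi24RepOrb.H) := Nat.finite_of_card_ne_zero (by rw [hcX]; norm_num)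
  have hsame : Same (commutator Fi24) (Fi24 ⧸ Cfsg.Agent.Fischer.Fi24RepOrb.H) :=
    same_of R _ index_commutator (fun x => odd (by rw [← hR]; exact ⟨x, rfl⟩)) (fi24_common R hR)
  obtain ⟨χ₁, χ₂, h1, h2⟩ := chars R (commutator Fi24) hsame (k := 31671) (l := 275264) (m := 3240)
    (Cfsg.Agent.H711.FiEven.nb_card R hR) (Cfsg.Agent.H711.FiEven.cb_card R hR) hcX
    (by norm_num) (by norm_num) (r := 351) (s := -81) (by norm_num) (by norm_num) (by norm_num)
    (f := 57477) (g := 249458) (by norm_num) (by norm_num)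
  have ho : ∀ p : ℕ, p.Prime → p ∣ 1255205709190661721292800 → ∃ x : ↥(commutator Fi24), orderOf x = p := by
    intro p hp hd
    have : Fact p.Prime := ⟨hp⟩
    exact exists_prime_orderOf_dvd_card' (G := ↥(commutator Fi24)) p (by rw [hcT]; exact hd)
  obtain ⟨a, ha⟩ := ho 17 (by norm_num) (by norm_num)
  have hx23 := Cfsg.Agent.H843.D23.order
  have hmem : Cfsg.Agent.H843.D23.D.x ∈ commutator Fi24 :=
    mem_of_odd index_commutator (n := 11) (by
      have := pow_orderOf_eq_one (Cfsg.Agent.H843.D23.D.x)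
      rwa [hx23] at this)
  have hx : orderOf (⟨_, hmem⟩ : ↥(commutator Fi24)) = 23 := by
    rw [← hx23, ← Subgroup.orderOf_coe]
  obtain ⟨hs, hsc⟩ := autNC_inv (a := a) (x := (⟨_, hmem⟩ : ↥(commutator Fi24))) (by rw [ha, hx]; norm_num)
    (fi24_not_inv hx23 Cfsg.Agent.H843.D23.main.1 Cfsg.Agent.H843.D23.main.2 hmem)
  obtain ⟨t, ht, htc, hto⟩ := autNC_of_orders (S := ↥(commutator Fi24)) {11, 17, 23} (by
    intro n hn
    simp only [Finset.mem_insert, Finset.mem_singleton] at hn
    rcases hn with rfl | rfl | rfl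
    · exact ho 11 (by norm_num) (by norm_num)
    · exact ho 17 (by norm_num) (by norm_num)
    · exact ho 23 (by norm_num) (by norm_num))
  refine rowT_of (θ₁ := χ₁) (θ₂ := χ₂) (by rw [h1, h2]; norm_num) _ t hs ht ?_ ?_ (by rw [hsc])
    (by rw [htc]; decide)
  · intro y hy
    simp only [Finset.mem_insert, Finset.mem_singleton] at hy
    have h23 : ∀ z : ↥(commutator Fi24), orderOf z = 23 → Sing (χ₁ : ↥(commutator Fi24) → ℂ) z := fun z hz =>
      sing_of (p := 23) (by norm_num) (by rw [hz]) h1 hcT (a := 2499) (b := 54574161269159205273600)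
        (by norm_num) (by norm_num) (by norm_num) (by norm_num)
    rcases hy with rfl | rfl | rfl
    · exact sing_of (p := 17) (by norm_num) (by rw [ha]) h1 hcT (a := 3381) (b := 73835629952391865958400)
        (by norm_num) (by norm_num) (by norm_num) (by norm_num)
    · exact h23 _ hx
    · exact h23 _ (by rw [orderOf_inv, hx])
  · intro x hx
    have h3 := hto x hx
    simp only [Finset.mem_insert, Finset.mem_singleton] at h3
    rcases h3 with h3 | h3 | h3
    · exact sing_of (p := 11) (by norm_num) (by rw [h3]) h2 hcT (a := 22678) (b := 114109609926423792844800)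
        (by norm_num) (by norm_num) (by norm_num) (by norm_num)
    · exact sing_of (p := 17) (by norm_num) (by rw [h3]) h2 hcT (a := 14674) (b := 73835629952391865958400)
        (by norm_num) (by norm_num) (by norm_num) (by norm_num)
    · exact sing_of (p := 23) (by norm_num) (by rw [h3]) h2 hcT (a := 10846) (b := 54574161269159205273600)
        (by norm_num) (by norm_num) (by norm_num) (by norm_num)

theorem fi24 {S : Type} [Group S] (h : Cfsg.Spor.IsoFi24' S) : RowT S := by
  obtain ⟨e⟩ := h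
  have hfin := finite_fi24'
  have e' : S ≃* ↥(commutator Fi24) := e
  have hfS : Finite S := Finite.of_equiv _ e'.symm.toEquiv
  exact RowT.of_equiv e' fi24_model

end Cfsg.Agent.H187.FiTwoZ
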