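import Cfsg.Agent.H187.FiTwoZ.FiTwo
import Cfsg.Agent.H961.SepFi23
import Cfsg.Agent.LThreeM.FiPar

/-!
# S4897, row `Fi23` (helper187)

Irreducible characters of degrees `782 = 2 * 17 * 23` and `30888 = 8 * 27 * 11 * 13`.
-/

set_option autoImplicit false

namespace Cfsg.Agent.H187.FiTwoZ

open Cfsg Cfsg.Spor Cfsg.Agent.H504.TwoZ
open Cfsg.Agent.Fischer.Fi23Class (K)
open Cfsg.Agent.Fischer.Fi23Z (z0)

theorem card_fi23 : Nat.card Spor.Fi23 = 4089470473293004800 := Cfsg.Agent.S1697.result.2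

theorem exists_22 : ∃ x : Spor.Fi23, orderOf x = 22 := by
  have hfin : Finite Spor.Fi23 := Nat.finite_of_card_ne_zero (by rw [card_fi23]; norm_num)
  have : Fact (Nat.Prime 11) := ⟨by norm_num⟩
  obtain ⟨y, hy⟩ := exists_prime_orderOf_dvd_card' (G := Subgroup.centralizer ({z0} : Set Spor.Fi23)) 11
    (by rw [Cfsg.Agent.H713.Spor.Fi23.card_z0]; norm_num)
  have hc : Commute (y : Spor.Fi23) z0 := (Subgroup.mem_centralizer_singleton_iff.1 y.2)
  have hy' : orderOf (y : Spor.Fi23) = 11 := by rw [Subgroup.orderOf_coe, hy]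
  refine ⟨y * z0, ?_⟩
  rw [hc.orderOf_mul_eq_mul_orderOf_of_coprime (by rw [hy', Cfsg.Agent.H713.Spor.Fi23.orderOf_z0]; norm_num), hy',
    Cfsg.Agent.H713.Spor.Fi23.orderOf_z0]

theorem fi23_not_inv {x : Spor.Fi23} (hx : orderOf x = 23) (φ : MulAut Spor.Fi23) : φ x ≠ x⁻¹ := by
  have hfin : Finite Spor.Fi23 := Nat.finite_of_card_ne_zero (by rw [card_fi23]; norm_num)
  intro h
  obtain ⟨g, rfl⟩ := Cfsg.Agent.KFacts.FiTTh.Has.inn φ
  obtain ⟨h1, h2⟩ := Cfsg.Agent.H961.SepFi23.data23 (R := Subgroup.zpowers x) (by rw [Nat.card_zpowers, hx])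
  exact not_real (x := x) (by rw [hx]; norm_num) (c := 23) (m := 11) (by rw [h2]) h1 (by decide) g h

theorem fi23_model : RowT Spor.Fi23 := by
  classical
  have hcT := card_fi23
  have hfin : Finite Spor.Fi23 := Nat.finite_of_card_ne_zero (by rw [card_fi23]; norm_num)
  obtain ⟨R, h0, -, hD⟩ := Cfsg.Agent.R08.FiTwentyThree.exists_rank3
  obtain ⟨χ₁, χ₂, h1, h2⟩ := chars_top R (k := 3510) (l := 28160) (m := 351)
    (Cfsg.Agent.LThreeM.FiThree.nb_card R h0 hD) (Cfsg.Agent.LThreeM.FiThree.cn_b R h0 hD)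
    Cfsg.Agent.LThreeM.FiThree.card_X
    (by norm_num) (by norm_num) (r := 351) (s := -9) (by norm_num) (by norm_num) (by norm_num) (f := 782) (g := 30888)
    (by norm_num) (by norm_num)
  have ho : ∀ p : ℕ, p.Prime → p ∣ 4089470473293004800 → ∃ x : Spor.Fi23, orderOf x = p := by
    intro p hp hd
    have : Fact p.Prime := ⟨hp⟩
    exact exists_prime_orderOf_dvd_card' (G := Spor.Fi23) p (by rw [hcT]; exact hd)
  obtain ⟨a, ha⟩ := ho 17 (by norm_num) (by norm_num)
  obtain ⟨x, hx⟩ := ho 23 (by norm_num) (by norm_num)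
  obtain ⟨hs, hsc⟩ := autNC_inv (a := a) (x := x) (by rw [ha, hx]; norm_num) (fi23_not_inv hx)
  obtain ⟨t, ht, htc, hto⟩ := autNC_of_orders (S := Spor.Fi23) {11, 13, 22} (by
    intro n hn
    simp only [Finset.mem_insert, Finset.mem_singleton] at hn
    rcases hn with rfl | rfl | rfl
    · exact ho 11 (by norm_num) (by norm_num)
    · exact ho 13 (by norm_num) (by norm_num)
    · exact exists_22)
  refine rowT_of (θ₁ := χ₁) (θ₂ := χ₂) (by rw [h1, h2]; norm_num) _ t hs ht ?_ ?_ (by rw [hsc])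
    (by rw [htc]; decide)
  · intro y hy
    simp only [Finset.mem_insert, Finset.mem_singleton] at hy
    have h23 : ∀ z : Spor.Fi23, orderOf z = 23 → Sing (χ₁ : Spor.Fi23 → ℂ) z := fun z hz =>
      sing_of (p := 23) (by norm_num) (by rw [hz]) h1 hcT (a := 34) (b := 177803064056217600) (by norm_num)
        (by norm_num) (by norm_num) (by norm_num)
    rcases hy with rfl | rfl | rfl
    · exact sing_of (p := 17) (by norm_num) (by rw [ha]) h1 hcT (a := 46) (b := 240557086664294400) (by norm_num)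
        (by norm_num) (by norm_num) (by norm_num)
    · exact h23 _ hx
    · exact h23 _ (by rw [orderOf_inv, hx])
  · intro x hx
    have h3 := hto x hx
    simp only [Finset.mem_insert, Finset.mem_singleton] at h3
    rcases h3 with h3 | h3 | h3
    · exact sing_of (p := 11) (by norm_num) (by rw [h3]) h2 hcT (a := 2808) (b := 371770043026636800) (by norm_num)
        (by norm_num) (by norm_num) (by norm_num)
    · exact sing_of (p := 13) (by norm_num) (by rw [h3]) h2 hcT (a := 2376) (b := 314574651791769600) (by norm_num)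
        (by norm_num) (by norm_num) (by norm_num)
    · exact sing_of (p := 11) (by norm_num) (by rw [h3]; norm_num) h2 hcT (a := 2808) (b := 371770043026636800)
        (by norm_num) (by norm_num) (by norm_num) (by norm_num)

theorem fi23 {S : Type} [Group S] (h : Cfsg.Spor.IsoFi23 S) : RowT S := by
  obtain ⟨e⟩ := h
  have hfin : Finite Spor.Fi23 := Nat.finite_of_card_ne_zero (by rw [card_fi23]; norm_num)
  have hfS : Finite S := Finite.of_equiv _ e.symm.toEquiv
  exact RowT.of_equiv e fi23_model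

end Cfsg.Agent.H187.FiTwoZ
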