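import Cfsg.Agent.H187.FiTwoZ.Base
import Cfsg.Agent.H713.Spor.Fi22

/-!
# S4897, row `Fi22` (helper187)

Irreducible characters of degrees `429 = 3 * 11 * 13` and `3080 = 8 * 5 * 7 * 11`.
-/

set_option autoImplicit false

namespace Cfsg.Agent.H187.FiTwoZ

open Cfsg Cfsg.Agent.H504.TwoZ

/-- the order of an element of a finset given by orders -/
theorem fac_one {N p m : ℕ} (hp : p.Prime) (hN : N = p * m) (hm : ¬ p ∣ m) : N.factorization p = 1 := by
  have hm0 : m ≠ 0 := by
    rintro rfl
    exact hm (dvd_zero p)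
  rw [hN, Nat.factorization_mul hp.ne_zero hm0]
  simp [hp.factorization_self, Nat.factorization_eq_zero_of_not_dvd hm]

theorem sing_of {S : Type*} [Group S] {θ : S → ℂ} {x : S} {p d N a b : ℕ} (hp : p.Prime) (hpx : p ∣ orderOf x)
    (hd : charDegree θ = d) (hN : Nat.card S = N) (ha : d = p * a) (ha' : ¬ p ∣ a) (hb : N = p * b)
    (hb' : ¬ p ∣ b) : Sing θ x :=
  ⟨p, hp, hpx, by rw [hd, hN, fac_one hp ha ha', fac_one hp hb hb']⟩

theorem fi22 {S : Type} [Group S] (h : Cfsg.Spor.IsoFi22 S) : RowT S := by
  obtain ⟨e⟩ := h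
  let T : Type := ↥(⊤ : Subgroup Cfsg.Agent.Fischer.Group22.G)
  let f : T ≃* Spor.Fi22 := Subgroup.topEquiv.trans Cfsg.Agent.R01.Fi22Facts.E
  have hcT : Nat.card T = 64561751654400 := Cfsg.Agent.H713.Spor.Fi22.card_fi22 f
  have hfT : Finite T := Nat.finite_of_card_ne_zero (by rw [hcT]; norm_num)
  have hfS : Finite S := Finite.of_equiv T (f.trans e.symm).toEquiv
  refine RowT.of_equiv (e.trans f.symm) ?_
  obtain ⟨χ₁, χ₂, h1, h2⟩ := chars Cfsg.Agent.Fischer.Rank22.R ⊤ same_top (k := 693) (l := 2816) (m := 126)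
    Cfsg.Agent.LThreeM.FiTwo.nb_card Cfsg.Agent.LThreeM.FiTwo.cn_b (by rw [Nat.card_eq_fintype_card, Fintype.card_fin])
    (by norm_num) (by norm_num) (r := 63) (s := -9) (by norm_num) (by norm_num) (by norm_num) (f := 429) (g := 3080)
    (by norm_num) (by norm_num)
  have ho : ∀ p : ℕ, p.Prime → p ∣ 64561751654400 → ∃ x : T, orderOf x = p := by
    intro p hp hd
    have : Fact p.Prime := ⟨hp⟩
    exact exists_prime_orderOf_dvd_card' (G := T) p (by rw [hcT]; exact hd)
  have o22 := Cfsg.Agent.H713.Spor.Fi22.exists_22 f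
  obtain ⟨s, hs, hsc, hso⟩ := autNC_of_orders (S := T) {11, 13, 22} (by
    intro n hn
    simp only [Finset.mem_insert, Finset.mem_singleton] at hn
    rcases hn with rfl | rfl | rfl
    · exact ho 11 (by norm_num) (by norm_num)
    · exact ho 13 (by norm_num) (by norm_num)
    · exact o22)
  obtain ⟨t, ht, htc, hto⟩ := autNC_of_orders (S := T) {7, 11, 22} (by
    intro n hn
    simp only [Finset.mem_insert, Finset.mem_singleton] at hn
    rcases hn with rfl | rfl | rfl
    · exact ho 7 (by norm_num) (by norm_num)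
    · exact ho 11 (by norm_num) (by norm_num)
    · exact o22)
  refine rowT_of (θ₁ := χ₁) (θ₂ := χ₂) (by rw [h1, h2]; norm_num) s t hs ht ?_ ?_ (by rw [hsc]; decide)
    (by rw [htc]; decide)
  · intro x hx
    have h3 := hso x hx
    simp only [Finset.mem_insert, Finset.mem_singleton] at h3
    rcases h3 with h3 | h3 | h3
    · exact sing_of (p := 11) (by norm_num) (by rw [h3]) h1 hcT (a := 39) (b := 5869250150400) (by norm_num)
        (by norm_num) (by norm_num) (by norm_num)
    · exact sing_of (p := 13) (by norm_num) (by rw [h3]) h1 hcT (a := 33) (b := 4966288588800) (by norm_num)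
        (by norm_num) (by norm_num) (by norm_num)
    · exact sing_of (p := 11) (by norm_num) (by rw [h3]; norm_num) h1 hcT (a := 39) (b := 5869250150400) (by norm_num)
        (by norm_num) (by norm_num) (by norm_num)
  · intro x hx
    have h3 := hto x hx
    simp only [Finset.mem_insert, Finset.mem_singleton] at h3
    rcases h3 with h3 | h3 | h3
    · exact sing_of (p := 7) (by norm_num) (by rw [h3]) h2 hcT (a := 440) (b := 9223107379200) (by norm_num)
        (by norm_num) (by norm_num) (by norm_num)
    · exact sing_of (p := 11) (by norm_num) (by rw [h3]) h2 hcT (a := 280) (b := 5869250150400) (by norm_num)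
        (by norm_num) (by norm_num) (by norm_num)
    · exact sing_of (p := 11) (by norm_num) (by rw [h3]; norm_num) h2 hcT (a := 280) (b := 5869250150400) (by norm_num)
        (by norm_num) (by norm_num) (by norm_num)

end Cfsg.Agent.H187.FiTwoZ
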