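import Cfsg.Agent.H187.FiTwoZ.FiTwo
import Cfsg.Agent.H187.Scheme.HN
import Cfsg.Agent.H710.Spor.HNMix

/-!
# S4897, row HN (helper187)

Two of the characters of degrees `16929 = 81 * 11 * 19`, `267520 = 256 * 5 * 11 * 19`, `214016 = 1024 * 11 * 19` are
irreducible, they vanish on the elements of the orders 11, 19, 22.
-/

set_option autoImplicit false

namespace Cfsg.Agent.H187.FiTwoZ

open Cfsg Cfsg.Agent.H504.TwoZ Cfsg.Agent.H710.Spor.HN Cfsg.Agent.H710.Spor.HNMix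
open Cfsg.Agent.HN.H0Basic (τ)

theorem hn_22 : ∃ x : Spor.HN, orderOf x = 22 :=
  ⟨_, by rw [comm_xτ.orderOf_mul_eq_mul_orderOf_of_coprime (by rw [orderOf_ψx, orderOf_ψτ]; norm_num), orderOf_ψx,
    orderOf_ψτ]⟩

theorem hn_pair {χ₁ χ₂ : Spor.HN → ℂ} (h1 : IsIrrCharacter Spor.HN χ₁) (h2 : IsIrrCharacter Spor.HN χ₂)
    {d₁ d₂ a₁ b₁ a₂ b₂ : ℕ} (e1 : χ₁ 1 = d₁) (e2 : χ₂ 1 = d₂) (hne : d₁ ≠ d₂) (k1 : d₁ = 11 * a₁) (k1' : ¬ 11 ∣ a₁)
    (l1 : d₁ = 19 * b₁) (l1' : ¬ 19 ∣ b₁) (k2 : d₂ = 11 * a₂) (k2' : ¬ 11 ∣ a₂)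
    (l2 : d₂ = 19 * b₂) (l2' : ¬ 19 ∣ b₂) : RowT Spor.HN := by
  have hcT := card_hn
  have hfin := finite_hn
  have c1 := Cfsg.Agent.Blocks.Basic.charDegree_of_eq e1
  have c2 := Cfsg.Agent.Blocks.Basic.charDegree_of_eq e2
  have ho : ∀ p : ℕ, p.Prime → p ∣ 273030912000000 → ∃ x : Spor.HN, orderOf x = p := by
    intro p hp hd
    have : Fact p.Prime := ⟨hp⟩
    exact exists_prime_orderOf_dvd_card' (G := Spor.HN) p (by rw [hcT]; exact hd)
  obtain ⟨s, hs, hsc, hso⟩ := autNC_of_orders (S := Spor.HN) {11, 19, 22} (by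
    intro n hn
    simp only [Finset.mem_insert, Finset.mem_singleton] at hn
    rcases hn with rfl | rfl | rfl
    · exact ho 11 (by norm_num) (by norm_num)
    · exact ho 19 (by norm_num) (by norm_num)
    · exact hn_22)
  have key : ∀ {χ : Spor.HN → ℂ} {d a b : ℕ}, charDegree χ = d → d = 11 * a → ¬ 11 ∣ a → d = 19 * b → ¬ 19 ∣ b →
      ∀ x ∈ s, Sing χ x := by
    intro χ d a b hd ha ha' hb hb' x hx
    have h3 := hso x hx
    simp only [Finset.mem_insert, Finset.mem_singleton] at h3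
    rcases h3 with h3 | h3 | h3
    · exact sing_of (p := 11) (by norm_num) (by rw [h3]) hd hcT ha ha' (b := 24820992000000)
        (by norm_num) (by norm_num)
    · exact sing_of (p := 19) (by norm_num) (by rw [h3]) hd hcT hb hb' (b := 14370048000000)
        (by norm_num) (by norm_num)
    · exact sing_of (p := 11) (by norm_num) (by rw [h3]; norm_num) hd hcT ha ha' (b := 24820992000000)
        (by norm_num) (by norm_num)
  exact rowT_of (θ₁ := ⟨χ₁, h1⟩) (θ₂ := ⟨χ₂, h2⟩) (by rw [c1, c2]; exact hne) s s hs hs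
    (key c1 k1 k1' l1 l1') (key c2 k2 k2' l2 l2') (by rw [hsc]; decide) (by rw [hsc]; decide)

theorem hn_model : RowT Spor.HN := by
  obtain ⟨χ, -, h1, -, h2⟩ := Cfsg.Agent.H187.Scheme.HN.chars
  have d2 : χ 2 1 = (16929 : ℕ) := h1 2
  have d3 : χ 3 1 = (267520 : ℕ) := h1 3
  have d6 : χ 6 1 = (214016 : ℕ) := h1 6
  by_cases i2 : IsIrrCharacter Spor.HN (χ 2)
  · rcases h2 3 6 (by decide) with i3 | i6
    · exact hn_pair i2 i3 d2 d3 (by norm_num) (a₁ := 1539) (b₁ := 891) (a₂ := 24320) (b₂ := 14080) (by norm_num)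
        (by norm_num) (by norm_num) (by norm_num) (by norm_num) (by norm_num) (by norm_num) (by norm_num)
    · exact hn_pair i2 i6 d2 d6 (by norm_num) (a₁ := 1539) (b₁ := 891) (a₂ := 19456) (b₂ := 11264) (by norm_num)
        (by norm_num) (by norm_num) (by norm_num) (by norm_num) (by norm_num) (by norm_num) (by norm_num)
  · have i3 := (h2 2 3 (by decide)).resolve_left i2
    have i6 := (h2 2 6 (by decide)).resolve_left i2
    exact hn_pair i3 i6 d3 d6 (by norm_num) (a₁ := 24320) (b₁ := 14080) (a₂ := 19456) (b₂ := 11264) (by norm_num)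
      (by norm_num) (by norm_num) (by norm_num) (by norm_num) (by norm_num) (by norm_num) (by norm_num)

theorem hn {S : Type} [Group S] (h : Cfsg.Spor.IsoHN S) : RowT S := by
  obtain ⟨e⟩ := h
  have hfin := finite_hn
  have hfS : Finite S := Finite.of_equiv _ e.symm.toEquiv
  exact RowT.of_equiv e hn_model

end Cfsg.Agent.H187.FiTwoZ
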